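import Cfsg.Agent.H463.Sp.Base
import Cfsg.Agent.BabyM.Instance
import Cfsg.Agent.KFacts.Baby.RowB

/-! # The coprime pair in the Baby Monster -/

set_option autoImplicit false

namespace Cfsg.Agent.H463.Sp.B

open Cfsg Subgroup Cfsg.Agent.H463.Pair Cfsg.Agent.BabyM Cfsg.Agent.BabyM.Model Cfsg.Agent.BabyU.ClosModel

theorem pair_model : Pair45 Inst.M.G := by
  have A := Instance.all
  have hB := Instance.tr
  have := A.finite_G
  let t : Inst.M.G := ⟨Inst.M.t₀, A.C_le_G A.t₀_C⟩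
  have ht1 : t ≠ 1 := fun h => A.rep.t₀_ne (congrArg Subtype.val h)
  have ht2 : orderOf t = 2 := by
    refine orderOf_eq_prime (Subtype.ext ?_) ht1
    change Inst.M.t₀ ^ 2 = 1
    rw [pow_two, A.rep.t₀_sq]
  have hC : Inst.M.C ≤ Inst.M.G := fun g hg => A.C_le_G hg
  have hQ : Inst.M.Q ≤ Inst.M.G := fun g hg => A.C_le_G (A.grp.Q_le hg)
  have hNc : Nat.card (Inst.M.C.subgroupOf Inst.M.G) = Nat.card Inst.M.C :=
    Nat.card_congr (Subgroup.subgroupOfEquivOfLe hC).toEquiv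
  have hQc : Nat.card (Inst.M.Q.subgroupOf Inst.M.G) = Nat.card Inst.M.Q :=
    Nat.card_congr (Subgroup.subgroupOfEquivOfLe hQ).toEquiv
  refine Sp.pair_of_card (r := 23) (by norm_num) (by norm_num) (E := Inst.M.Q.subgroupOf Inst.M.G)
    (N := Inst.M.C.subgroupOf Inst.M.G) ?_ ?_ ?_ (y := t) ?_ ht1 ⟨1, by rw [ht2, pow_one]⟩ ?_
  · have h1 : IsPGroup 2 (Inst.M.Q.subgroupOf Inst.M.G) := IsPGroup.of_card (n := 23) (by rw [hQc, A.grp.Q_card])
    exact solvable_of_isPGroup Nat.prime_two h1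
  · intro g hg
    refine mem_normalizer_of' fun e he => ?_
    rw [Subgroup.mem_subgroupOf] at he hg ⊢
    exact A.grp.Q_normal _ hg _ he
  · obtain ⟨π, hπ, -⟩ := A.grp.quot
    rw [hNc]
    have h1 : Nat.card GroupInst.K₀ ∣ Nat.card Inst.M.C := Subgroup.card_dvd_of_surjective π hπ
    rw [A.grp.card] at h1
    exact (by norm_num : 23 ∣ 42305421312000).trans h1
  · exact Subgroup.mem_subgroupOf.2 A.rep.t₀_mem
  · rw [A.card_cent hB]; norm_num

theorem pair {K : Type*} [Group K] (h : Spor.IsoB K) : Pair45 K := by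
  obtain ⟨e⟩ := KFacts.Baby.RowB.exists_iso h
  exact Cfsg.Agent.H463.Pair.congr e pair_model

end Cfsg.Agent.H463.Sp.B
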