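import Cfsg.Agent.H463.Sp.Base
import Cfsg.Agent.H839.SeventeenMain

/-! # The coprime pair in `Fi23` -/

set_option autoImplicit false

namespace Cfsg.Agent.H463.Sp.Fi23

open Cfsg Subgroup Cfsg.Agent.H463.Pair Cfsg.Agent.H729.PairBase

theorem pairN {K : Type*} [Group K] [Finite K] (h : Spor.IsoFi23 K) : PairN K := by
  obtain ⟨e⟩ := h
  have key := H839.Fi23.SC.map_all e.symm H839.Fi23.seventeen_main
  refine of_sub (r := 17) (by norm_num) (by norm_num) ?_ ?_ ?_
  · rw [Nat.card_congr e.toEquiv, ← H839.Fi23.card_y17]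
    exact Subgroup.card_subgroup_dvd_card _
  · intro P hP
    rw [(key P hP).2, hP]; norm_num
  · intro P hP
    rw [(key P hP).1]; norm_num

theorem pair {K : Type*} [Group K] [Finite K] (h : Spor.IsoFi23 K) : Pair45 K := (pairN h).pair45

end Cfsg.Agent.H463.Sp.Fi23
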