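import Cfsg.Agent.H463.Sp.Base
import Cfsg.Agent.H859.BigNum

/-! # The coprime pair in `J4` -/

set_option autoImplicit false

namespace Cfsg.Agent.H463.Sp.J4

open Cfsg Subgroup Cfsg.Agent.H463.Pair Cfsg.Agent.H729.PairBase

theorem pairN_model [Finite Spor.J4] : PairN Spor.J4 := by
  refine of_sub (r := 29) (by norm_num) (by norm_num) ?_ ?_ ?_
  · obtain ⟨P, hP⟩ := H859.BigNum.exists_sub 29 (by norm_num)
    exact hP ▸ Subgroup.card_subgroup_dvd_card P
  · intro P hP
    rw [(H859.BigNum.data29' hP).1]; norm_num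
  · intro P hP
    rw [(H859.BigNum.data29' hP).2]; norm_num

theorem pair {K : Type*} [Group K] [Finite K] (h : Spor.IsoJ4 K) : Pair45 K := by
  obtain ⟨e⟩ := h
  have : Finite Spor.J4 := Finite.of_equiv K e.toEquiv
  exact (pairN_model.congr e.symm).pair45

end Cfsg.Agent.H463.Sp.J4
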