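import Cfsg.Agent.H463.Sp.Base
import Cfsg.Agent.H848.MonsterSetup
import Cfsg.Agent.H848.SetupFive

/-! # The coprime pair in the Monster -/

set_option autoImplicit false

namespace Cfsg.Agent.H463.Sp.M

open Cfsg Subgroup Cfsg.Agent.H463.Pair

theorem pair_model : Pair45 Spor.Monster := by
  have := H848.MonsterSetup.simple
  have := H848.MonsterSetup.finite
  obtain ⟨Q, z, eta, pi, h⟩ := H848.MonsterSetup.exists_chart
  obtain ⟨eta', pi', h', y, τ, hyQ, hy, τz, -, -, τE⟩ := H848.SetupFive.exists_setup h
  have hz := H848.NormFive.z_mem h'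
  have hcard := H848.NormFive.card_E5 h'
  have hCz := MonsterU.AmalElts.card_centralizer h'
  have hz1 : z ≠ 1 := by
    rintro rfl
    have h1 : Nat.card (centralizer ({(1 : Spor.Monster)} : Set Spor.Monster)) = Nat.card Spor.Monster := by
      have : centralizer ({(1 : Spor.Monster)} : Set Spor.Monster) = ⊤ := by
        ext g
        simp [mem_centralizer_singleton_iff]
      rw [this, Subgroup.card_top]
    rw [h1, H848.MonsterSetup.card] at hCz
    norm_num at hCz
  have hz2 : orderOf z = 2 := orderOf_eq_prime (by rw [pow_two]; exact H848.NormFive.sq h' hz) hz1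
  refine Sp.pair_of_trans (r := 31) (by norm_num) (by norm_num) (E := H848.NormFive.E5 h')
    (N := H848.NormFive.N5 h') ?_ le_rfl hz hz2 (fun e he he1 => H848.NormFive.conj_z_all h' hyQ hy τz τE he he1) ?_ ?_
  · exact Group.isSolvable_of_comm fun a b => Subtype.ext (H848.NormFive.ab h' a.2 b.2)
  · rw [hcard]; norm_num
  · rw [hCz]; norm_num

theorem pair {K : Type*} [Group K] (h : Spor.IsoM K) : Pair45 K := by
  obtain ⟨e⟩ := h
  exact Cfsg.Agent.H463.Pair.congr e.symm pair_model

end Cfsg.Agent.H463.Sp.M
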