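import Cfsg.Agent.H463.Sp.Base
import Cfsg.Agent.TypeM.FactsLy
import Cfsg.Agent.TypeM.FactsMcL

/-! # The coprime pairs in groups with an involution centralizer `2.A_n`: `McL`, `Ly` -/

set_option autoImplicit false

namespace Cfsg.Agent.H463.Sp.TwoAn

open Cfsg Subgroup Equiv Cfsg.Agent.H463.Pair Cfsg.Agent.H729.PairBase Cfsg.Agent.SporRec.TwoAn Cfsg.Agent.TypeM.Two

variable {G : Type*} [Group G]

/-- **Criterion.** The centralizer of the involution `t` is a double cover of `A_n`; `a` of odd prime order `r`,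
inverted by `b`; all lifts of `b` have a power of exponent a power of 2 equal to `t`; no element of order `r` of the
symmetric group commutes with `b`. -/
theorem pairN_of_cover [Finite G] {n : ℕ} {t : G} (K : Cover (Fin n) (centralizer ({t} : Set G)))
    (hz : (K.z : G) = t) {r k : ℕ} (hr : r.Prime) (hr2 : r ≠ 2) {a b : Perm (Fin n)} (ha : a ^ r = 1) (ha1 : a ≠ 1)
    (haA : a ∈ alternatingGroup (Fin n)) (hbA : b ∈ alternatingGroup (Fin n)) (hab : b * a * b⁻¹ = a⁻¹)
    (hbk : ∀ y, K.π y = b → y ^ (2 ^ k) = K.z)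
    (hC : ∀ g : Perm (Fin n), g ^ r = 1 → g * b = b * g → g = 1) : PairN G := by
  have hodd : Odd r := hr.odd_of_ne_two hr2
  obtain ⟨x, hx, hxr⟩ := K.exists_odd_lift haA hodd ha
  obtain ⟨y, hy⟩ := K.exists_lift hbA
  have hx1 : x ≠ 1 := by
    rintro rfl
    rw [map_one] at hx
    exact ha1 hx.symm
  have hxo : orderOf x = r := by
    have : Fact r.Prime := ⟨hr⟩
    exact orderOf_eq_prime hxr hx1
  have hinv : y * x * y⁻¹ = x⁻¹ := by
    refine K.odd_lift_unique hodd ?_ ?_ ?_
    · rw [conj_pow, hxr, mul_one, mul_inv_cancel]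
    · rw [inv_pow, hxr, inv_one]
    · rw [map_mul, map_mul, map_inv, map_inv, hx, hy, hab]
  have hyk := hbk y hy
  have hy1 : y ≠ 1 := by
    rintro rfl
    rw [one_pow] at hyk
    exact K.z_ne hyk.symm
  have hyo : y ^ 2 ^ (k + 1) = 1 := by
    rw [pow_succ, pow_mul, hyk, K.z_pow_two]
  obtain ⟨j, -, hj⟩ := (Nat.dvd_prime_pow Nat.prime_two).1 (orderOf_dvd_of_pow_eq_one hyo)
  refine PairN.of_cent (r := r) hr hr2 (x := (x : G)) (y := (y : G)) ?_ ?_ ⟨j, ?_⟩ ?_ ?_
  · rw [Subgroup.orderOf_coe, hxo]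
  · exact fun h => hy1 (Subtype.ext h)
  · rw [Subgroup.orderOf_coe, hj]
  · refine mem_normalizer_of_conj_pow (k := r - 1) ?_
    have h1 : (y : G) * x * (y : G)⁻¹ = (x : G)⁻¹ := congrArg Subtype.val hinv
    rw [h1]
    refine inv_eq_of_mul_eq_one_right ?_
    rw [← pow_succ', Nat.sub_add_cancel hr.one_le, ← Subgroup.coe_pow, hxr, Subgroup.coe_one]
  · intro g hg hgy
    have h1 : Commute g t := by
      rw [← hz, ← hyk, Subgroup.coe_pow]
      exact hgy.pow_right _
    let g' : centralizer ({t} : Set G) := ⟨g, mem_centralizer_singleton_iff.2 h1⟩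
    have hg' : orderOf g' = r := by rw [Subgroup.orderOf_mk]; exact hg
    have hgy' : g' * y = y * g' := Subtype.ext hgy
    have h2 : K.π g' = 1 := by
      refine hC _ ?_ ?_
      · rw [← map_pow, ← hg', pow_orderOf_eq_one, map_one]
      · rw [← hy, ← map_mul, ← map_mul, hgy']
    rcases (K.ker g').1 h2 with h3 | h3
    · rw [h3, orderOf_one] at hg'
      exact hr.one_lt.ne hg'
    · rw [h3, K.orderOf_z] at hg'
      exact hr2 hg'.symm

/-- a permutation of prime order `p` preserving a set of fewer than `p` points fixes it pointwise -/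
theorem fix_of_small {α : Type*} [DecidableEq α] [Fintype α] {σ : Perm α} {p : ℕ} (hp : p.Prime) (h5 : σ ^ p = 1)
    {F : Finset α} (hF : F.card < p) (hinv : ∀ q ∈ F, σ q ∈ F) {q : α} (hq : q ∈ F) : σ q = q := by
  have hpow : ∀ n : ℕ, (σ ^ n) q ∈ F := by
    intro n
    induction n with
    | zero => exact hq
    | succ n ih => rw [pow_succ', Equiv.Perm.mul_apply]; exact hinv _ ih
  have h1 : ∃ i ∈ Finset.range p, ∃ j ∈ Finset.range p, i ≠ j ∧ (σ ^ i) q = (σ ^ j) q := by
    refine Finset.exists_ne_map_eq_of_card_lt_of_maps_to (t := F) (by rw [Finset.card_range]; exact hF)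
      fun n _ => hpow n
  have hper : Function.IsPeriodicPt σ p q := by
    rw [Function.IsPeriodicPt, Function.IsFixedPt, ← Equiv.Perm.coe_pow, h5]
    rfl
  have hlt : ∀ i j : ℕ, i < j → j < p → (σ ^ i) q = (σ ^ j) q → σ q = q := by
    intro i j hij hj e
    have h2 : Function.IsPeriodicPt σ (j - i) q := by
      rw [Function.IsPeriodicPt, Function.IsFixedPt, ← Equiv.Perm.coe_pow]
      apply (σ ^ i).injective
      rw [← Equiv.Perm.mul_apply, ← pow_add, Nat.add_sub_cancel' hij.le, e]
    have h3 := hper.gcd h2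
    have h4 : Nat.gcd p (j - i) = 1 := by
      refine (Nat.Prime.coprime_iff_not_dvd hp).2 fun h => ?_
      have := Nat.le_of_dvd (by omega) h
      omega
    rw [h4] at h3
    exact h3
  obtain ⟨i, hi, j, hj, hij, e⟩ := h1
  rw [Finset.mem_range] at hi hj
  rcases lt_or_gt_of_ne hij with h | h
  · exact hlt i j h hj e
  · exact hlt j i h hi e.symm

/-- a permutation of prime order commuting with `b` is trivial if some partition into three `b`-characteristic small
sets exists: the fixed points of `b`, the remaining fixed points of `b * b`, and the rest. -/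
theorem eq_one_of_small {α : Type*} [DecidableEq α] [Fintype α] {g b : Perm α} {p : ℕ} (hp : p.Prime) (hg : g ^ p = 1)
    (hgb : g * b = b * g) (h1 : (Finset.univ.filter fun q => b q = q).card < p)
    (h2 : (Finset.univ.filter fun q => b q ≠ q ∧ b (b q) = q).card < p)
    (h3 : (Finset.univ.filter fun q => b (b q) ≠ q).card < p) : g = 1 := by
  have hc : ∀ q, g (b q) = b (g q) := fun q => by rw [← Perm.mul_apply, hgb, Perm.mul_apply]
  refine Equiv.ext fun q => ?_
  rw [Perm.one_apply]
  by_cases e2 : b (b q) = q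
  · by_cases e1 : b q = q
    · refine fix_of_small hp hg h1 (fun q hq => ?_) (Finset.mem_filter.2 ⟨Finset.mem_univ _, e1⟩)
      rw [Finset.mem_filter] at hq ⊢
      exact ⟨Finset.mem_univ _, by rw [← hc, hq.2]⟩
    · refine fix_of_small hp hg h2 (fun q hq => ?_) (Finset.mem_filter.2 ⟨Finset.mem_univ _, e1, e2⟩)
      rw [Finset.mem_filter] at hq ⊢
      refine ⟨Finset.mem_univ _, fun h => hq.2.1 (g.injective ?_), ?_⟩
      · rw [hc, h]
      · rw [← hc, ← hc, hq.2.2]
  · refine fix_of_small hp hg h3 (fun q hq => ?_) (Finset.mem_filter.2 ⟨Finset.mem_univ _, e2⟩)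
    rw [Finset.mem_filter] at hq ⊢
    refine ⟨Finset.mem_univ _, fun h => hq.2 (g.injective ?_)⟩
    rw [hc, hc, h]

/-- the 7-cycle -/
def a11 : Perm (Fin 11) := c[0, 1, 2, 3, 4, 5, 6]

/-- inverts the 7-cycle -/
def b11 : Perm (Fin 11) := c[1, 6] * c[2, 5] * c[3, 4] * c[7, 8, 9, 10]

theorem ly {M : Type*} [Group M] (h : Spor.IsoLy M) : PairN M := by
  obtain ⟨hf, -, -, ⟨L⟩⟩ := Cfsg.Agent.TypeM.FactsLy.facts h
  refine pairN_of_cover L.K L.hz (r := 7) (k := 2) (by norm_num) (by norm_num) (a := a11) (b := b11) (by decide +kernel)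
    (by decide +kernel) (by rw [Perm.mem_alternatingGroup]; decide +kernel)
    (by rw [Perm.mem_alternatingGroup]; decide +kernel) (by decide +kernel) ?_ ?_
  · intro y hy
    have h1 : L.K.π (y * y) = swap 7 9 * swap 8 10 := by
      rw [map_mul, hy]
      decide +kernel
    have h2 := L.K.dbl 7 9 8 10 (by decide) (by decide) (by decide) (by decide) (by decide) (by decide) _ h1
    rw [show (2 : ℕ) ^ 2 = 2 * 2 by norm_num, pow_mul, pow_two y, pow_two]
    exact h2
  · intro g hg hgb
    exact eq_one_of_small (p := 7) (by norm_num) hg hgb (by decide +kernel) (by decide +kernel) (by decide +kernel)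

/-- the 5-cycle -/
def a8 : Perm (Fin 8) := c[0, 1, 2, 3, 4]

/-- inverts the 5-cycle -/
def b8 : Perm (Fin 8) := c[1, 4] * c[2, 3]

theorem mcl {M : Type*} [Group M] (h : Spor.IsoMcL M) : PairN M := by
  obtain ⟨hf, -, -, ⟨L⟩⟩ := Cfsg.Agent.TypeM.FactsMcL.facts h
  refine pairN_of_cover L.K L.hz (r := 5) (k := 1) (by norm_num) (by norm_num) (a := a8) (b := b8) (by decide +kernel)
    (by decide +kernel) (by rw [Perm.mem_alternatingGroup]; decide +kernel)
    (by rw [Perm.mem_alternatingGroup]; decide +kernel) (by decide +kernel) ?_ ?_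
  · intro y hy
    have h1 : L.K.π y = swap 1 4 * swap 2 3 := by
      rw [hy]
      decide +kernel
    rw [pow_one, pow_two]
    exact L.K.dbl 1 4 2 3 (by decide) (by decide) (by decide) (by decide) (by decide) (by decide) _ h1
  · intro g hg hgb
    exact eq_one_of_small (p := 5) (by norm_num) hg hgb (by decide +kernel) (by decide +kernel) (by decide +kernel)

end Cfsg.Agent.H463.Sp.TwoAn
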