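import Cfsg.Agent.H463.Sp.Fi24
import Cfsg.Agent.H463.Sp.Fi23
import Cfsg.Agent.H463.Sp.J4
import Cfsg.Agent.H463.Sp.M
import Cfsg.Agent.H463.Sp.B
import Cfsg.Agent.H463.Sp.Th
import Cfsg.Agent.H463.Sp.TwoAn
import Cfsg.Agent.H463.Sp.HN
import Cfsg.Agent.H729.PairM11
import Cfsg.Agent.H729.PairMathieu
import Cfsg.Agent.H729.PairJ1
import Cfsg.Agent.H729.PairTable
import Cfsg.Agent.H729.PairFour
import Cfsg.Agent.H729.PairHS
import Cfsg.Agent.H729.PairHe
import Cfsg.Agent.H729.PairON
import Cfsg.Agent.H729.PairCo1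
import Cfsg.Agent.H729.PairCo2
import Cfsg.Agent.H729.PairCo3
import Cfsg.Agent.H729.PairTits

/-! # The coprime pairs in all sporadic groups and the Tits group (helper463, helper729) -/

set_option autoImplicit false

namespace Cfsg.Agent.H463.Sp.All

open Cfsg Cfsg.Agent.H463.Pair Cfsg.Agent.H729

universe u

/-- **`Pair45` for the sporadic groups.** -/
theorem pair {K : Type u} [Group K] [Finite K] (h : IsSporadicGroup K) : Pair45 K := by
  rcases h with h | h | h | h | h | h | h | h | h | h | h | h | h | h | h | h | h | h | h | h | h | h | h | h | h | h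
  · exact (PairM11.pairN h).pair45
  · exact (PairMathieu.m12 h).pair45
  · exact (PairMathieu.m22 h).pair45
  · exact (PairMathieu.m23 h).pair45
  · exact (PairMathieu.m24 h).pair45
  · exact (PairJ1.j1 h).pair45
  · exact (PairTable.j2 h).pair45
  · exact (PairFour.j3 h).pair45
  · exact J4.pair h
  · exact PairCo1.co1 h
  · exact PairCo2.co2 h
  · exact PairCo3.co3 h
  · exact (TwoAn.mcl h).pair45
  · exact (PairHS.hs h).pair45
  · exact (PairTable.suz h).pair45
  · exact (PairHe.he h).pair45
  · exact (PairTable.ru h).pair45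
  · exact (PairON.on h).pair45
  · exact (TwoAn.ly h).pair45
  · exact (PairFour.fi22 h).pair45
  · exact Fi23.pair h
  · exact Fi24.pair h
  · exact (HN.pairN h).pair45
  · exact Th.pair h
  · exact B.pair h
  · exact M.pair h

/-- **`Pair45` for the Tits group.** -/
theorem tits {K : Type u} [Group K] [Finite K] (h : Lie.IsoTits K) : Pair45 K := (PairTits.tits h).pair45

end Cfsg.Agent.H463.Sp.All
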