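import Cfsg.Agent.H463.Sp.Base
import Cfsg.Agent.H843.N29

/-! # The coprime pair in `Fi24'` -/

set_option autoImplicit false

namespace Cfsg.Agent.H463.Sp.Fi24

open Cfsg Subgroup Cfsg.Agent.H463.Pair Cfsg.Agent.H729.PairBase

theorem pairN_model : PairN Spor.Fi24' := by
  have : Finite Spor.Fi24 := Cfsg.Agent.R08.FiTwentyFour.finite_Fi24
  refine of_index_two Cfsg.Agent.R08.FiTwentyFour.index_commutator (r := 29) (by norm_num) (by norm_num)
    H843.D29.order ?_ ?_
  · rw [← centralizer_zpowers_eq, H843.D29.main.2]; norm_num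
  · rw [H843.D29.main.1]; norm_num

theorem pairN {K : Type*} [Group K] (h : Spor.IsoFi24' K) : PairN K := by
  obtain ⟨e⟩ := h
  exact pairN_model.congr e.symm

theorem pair {K : Type*} [Group K] [Finite K] (h : Spor.IsoFi24' K) : Pair45 K := (pairN h).pair45

end Cfsg.Agent.H463.Sp.Fi24
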